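import Cfsg.Agent.H742.S4822.OneLe
import Cfsg.Agent.H246.KB.Ind

/-!
# S4822, T1b (helper742): the final statement
-/

set_option autoImplicit false

namespace Cfsg.Agent.H742.S4822

open Cfsg Subgroup Cfsg.Agent.H508.KB
open Cfsg.Agent.Lib.MinNormalNonabelian Cfsg.Agent.H531.LemX Cfsg.Agent.H978.Alm.Nonab

universe u

variable {p : ℕ} [Fact p.Prime] {M : Ideal AlgInt} {G : Type u} [Group G] [Finite G] {N : Subgroup G} [N.Normal]
  {T : minSet N} {A : Type u} [Group A] [Finite A] {π : ↥(normalizer (T.1 : Set G)) →* A}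

/-- T1b. -/
theorem card_one_le (hM : IsPModular p M) (D : Dat N T π) [(Im π).Normal] (hcop : ¬ p ∣ N.index)
    (hdN : p ∣ Nat.card N) :
    kB M A ≤ Nat.card {χ : IrrCharacter G // χ ∈ principalBlock M G ∧ NT N χ 1} + ker M (Im π) :=
  card_one_le_of hM D hcop hdN (Cfsg.Agent.H246.KB.Ind.exists_ind D) (Cfsg.Agent.H246.KB.Ind.ind_inj D)

end Cfsg.Agent.H742.S4822
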