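import Cfsg.Agent.H61.S4822.CentNorm
import Cfsg.Agent.H684.BlockTools
import Cfsg.Agent.H531.KB.MemInd

/-!
# S4822, T1b (helper742): the characters over characters of one component

`card_one_le_of` : the assembly of T1b1 - T1b4, with T1b3, T1b4 as hypotheses.
-/

set_option autoImplicit false

namespace Cfsg.Agent.H742.S4822

open Cfsg Subgroup Cfsg.Agent.H508.KB
open Cfsg.Agent.Lib.MinNormalNonabelian Cfsg.Agent.H531.LemX Cfsg.Agent.H978.Alm.Nonab

universe u

variable {p : ℕ} [Fact p.Prime] {M : Ideal AlgInt} {G : Type u} [Group G] [Finite G] {N : Subgroup G} [N.Normal]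
  {T : minSet N} {A : Type u} [Group A] [Finite A] {π : ↥(normalizer (T.1 : Set G)) →* A}

/-- T1b, with T1b3, T1b4 as hypotheses. -/
theorem card_one_le_of (hM : IsPModular p M) (D : Dat N T π) [(Im π).Normal] (hcop : ¬ p ∣ N.index)
    (hdN : p ∣ Nat.card N)
    (h3 : ∀ ψ : IrrCharacter A, (¬ ∀ s ∈ Im π, (ψ : A → ℂ) s = (ψ : A → ℂ) 1) →
      ∃ χ : IrrCharacter G, NT N χ 1 ∧
        (χ : G → ℂ) = @indFun G _ (Fintype.ofFinite G) (normalizer (T.1 : Set G)) (fun u => (ψ : A → ℂ) (π u)))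
    (h4 : ∀ ψ ψ' : IrrCharacter A, (¬ ∀ s ∈ Im π, (ψ : A → ℂ) s = (ψ : A → ℂ) 1) →
      (¬ ∀ s ∈ Im π, (ψ' : A → ℂ) s = (ψ' : A → ℂ) 1) →
      @indFun G _ (Fintype.ofFinite G) (normalizer (T.1 : Set G)) (fun u => (ψ : A → ℂ) (π u)) =
        @indFun G _ (Fintype.ofFinite G) (normalizer (T.1 : Set G)) (fun u => (ψ' : A → ℂ) (π u)) → ψ = ψ') :
    kB M A ≤ Nat.card {χ : IrrCharacter G // χ ∈ principalBlock M G ∧ NT N χ 1} + ker M (Im π) := by
  classical
  have hfinA : Finite (IrrCharacter A) := Characters.Core.finite_irr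
  have hfinG : Finite (IrrCharacter G) := Characters.Core.finite_irr
  have P : Sylow p G := default
  obtain ⟨hP, hC⟩ := Cfsg.Agent.H61.S4822.centralizer_le_normalizer D hcop hdN P
  -- the characters without `Im π` in the kernel
  have key : ∀ x : {ψ : IrrCharacter A // ψ ∈ principalBlock M A ∧ ¬ ∀ s ∈ Im π, (ψ : A → ℂ) s = (ψ : A → ℂ) 1},
      ∃ χ : {χ : IrrCharacter G // χ ∈ principalBlock M G ∧ NT N χ 1},
        (χ.1 : G → ℂ) = @indFun G _ (Fintype.ofFinite G) (normalizer (T.1 : Set G)) (fun u => (x.1 : A → ℂ) (π u)) := by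
    rintro ⟨ψ, hψ, hk⟩
    obtain ⟨χ, hχ, he⟩ := h3 ψ hk
    refine ⟨⟨χ, ?_, hχ⟩, he⟩
    exact Cfsg.Agent.H531.KB.mem_of_induced hM P _ hP hC (H684.BlockTools.infl π D.surj ψ)
      (H684.BlockTools.infl_mem hM π D.surj hψ) χ he
  choose f hf using key
  have hinj : Function.Injective f := by
    intro x y hxy
    apply Subtype.ext
    apply h4 x.1 y.1 x.2.2 y.2.2
    rw [← hf x, ← hf y, hxy]
  have hle := Nat.card_le_card_of_injective f hinj
  have hsum : kB M A = Nat.card {ψ : IrrCharacter A // ψ ∈ principalBlock M A ∧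
      ¬ ∀ s ∈ Im π, (ψ : A → ℂ) s = (ψ : A → ℂ) 1} + ker M (Im π) := by
    have e := Set.ncard_inter_add_ncard_diff_eq_ncard (principalBlock M A)
      {ψ : IrrCharacter A | ∀ s ∈ Im π, (ψ : A → ℂ) s = (ψ : A → ℂ) 1} (Set.toFinite _)
    rw [add_comm] at e
    exact e.symm
  rw [hsum]
  exact Nat.add_le_add_right hle _

end Cfsg.Agent.H742.S4822
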